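import Mathlib
import Cfsg.Agent.Lib.PGroup.RankTwo2

/-!
# Automorphisms of `p`-groups of rank two, `p ≥ 5`
-/

set_option autoImplicit false
set_option linter.unusedSectionVars false
set_option maxHeartbeats 400000

namespace CfsgLib.PGroup

open Cfsg Subgroup CfsgLib.RegP
open scoped commutatorElement

universe u

variable {G : Type u} [Group G] {p : ℕ}

theorem map_cj {H : Type*} [Group H] {F : Type*} [FunLike F G H] [MonoidHomClass F G H] (f : F)
    (g x : G) : f (cj g x) = cj (f g) (f x) := by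
  simp [cj]

theorem cj_mul_right {g x e : G} (h1 : Commute g e) (h2 : Commute (cj g x) e) :
    cj g (x * e) = cj g x := by
  apply cj_eq_of_mul_eq
  rw [← mul_assoc, mul_eq_cj g x, mul_assoc _ _ e, h2.eq, mul_assoc x e, ← h1.eq]
  simp only [mul_assoc]

theorem cj_pow_right {g x : G} (h : Commute (cj g x) x) (n : ℕ) : cj g (x ^ n) = cj g x ^ n :=
  cj_eq_of_mul_eq (mul_pow_eq_of_comm (mul_eq_cj g x) h n)

theorem exists_pow_mul_eq_of_index_prime [Finite G] [hp : Fact p.Prime] {D : Subgroup G} [D.Normal]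
    (hD : D.index = p) {x : G} (hx : x ∉ D) (g : G) : ∃ k : ℕ, ∃ e ∈ D, x ^ k * e = g := by
  have h1 : zpowers x ⊔ D = ⊤ := (CfsgLib.Core.isCoatom_of_index_prime (hD ▸ hp.out)).2 _
    (lt_of_le_of_ne le_sup_right fun h => hx (h.ge (mem_sup_left (mem_zpowers x))))
  obtain ⟨_, hc, e, he, rfl⟩ := mem_sup_of_normal_right.1 (h1.ge (mem_top g))
  obtain ⟨k, rfl⟩ := mem_powers_iff_mem_zpowers.2 hc
  exact ⟨k, e, he, rfl⟩

theorem modEq_of_pow_eq_pow [hp : Fact p.Prime] {t : G} (ht : t ≠ 1) (htp : t ^ p = 1) {i j : ℕ}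
    (h : t ^ i = t ^ j) : (i : ZMod p) = j := by
  rwa [pow_eq_pow_iff_modEq, orderOf_eq_prime htp ht, ← ZMod.natCast_eq_natCast_iff] at h

theorem modEq_of_pow_inv_mul_mem [Finite G] [hp : Fact p.Prime] {D : Subgroup G} [D.Normal]
    (hD : D.index = p) {w : G} (hw : w ∉ D) {i j : ℕ} (h : (w ^ i)⁻¹ * w ^ j ∈ D) :
    (i : ZMod p) = j := by
  refine modEq_of_pow_eq_pow (t := QuotientGroup.mk' D w) (mt (QuotientGroup.eq_one_iff _).1 hw)
    (by rw [← hD]; exact pow_card_eq_one') ?_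
  rw [← map_pow, ← map_pow]
  exact QuotientGroup.eq.2 h

theorem index_frattini_le_sq_of_pair [Finite G] [hp : Fact p.Prime] (hG : IsPGroup p G) {x y : G}
    (h : closure ({x, y} : Set G) = ⊤) : (frattini G).index ∣ p ^ 2 := by
  classical
  obtain ⟨n, hn⟩ := hG.index (frattini G)
  rw [hn]
  exact pow_dvd_pow p ((CfsgLib.Core.burnside_basis_le hG hn {x, y} (by simpa using h)).trans
    Finset.card_le_two)

theorem isMetacyclic_subgroup (h : IsMetacyclic G) (H : Subgroup G) : IsMetacyclic H := by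
  obtain ⟨N, hN, h1, h2⟩ := h
  refine ⟨((QuotientGroup.mk' N).comp H.subtype).ker, inferInstance, ?_,
    isCyclic_of_injective _ (QuotientGroup.kerLift_injective _)⟩
  exact isCyclic_of_injective ((H.subtype.comp (Subgroup.subtype _)).codRestrict N
    fun x => (QuotientGroup.eq_one_iff _).1 x.2) fun x y hxy =>
      Subtype.ext (Subtype.ext (congrArg (Subtype.val : N → G) hxy))

/-- For `p > 3`, `Ω₁` of a group of rank two has order at most `p ^ 3`. -/
theorem card_omega_le_cube [Finite G] [hp : Fact p.Prime] (h3 : 3 < p) (hG : IsPGroup p G)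
    (hrk : PRankLE p 2 G) : Nat.card (closure {x : G | x ^ p = 1}) ≤ p ^ 3 :=
  card_le_cube_of_exponent_of_rank_two (fun x => Subtype.ext
    (omega_pow_eq_one_of_rank_two h3 hG (fun E hE => hrk E hE.1 hE.2) x.2))
    (rank_le_of_injective (Subgroup.subtype _) (subtype_injective _) fun E hE => hrk E hE.1 hE.2)

/-- The structure of a non-metacyclic `p`-group of rank two, `p > 3`. -/
theorem exists_rankTwoAb [Finite G] [hp : Fact p.Prime] (h3 : 3 < p) (hP : IsPGroup p G)
    (hrk : PRankLE p 2 G) (hm : ¬ IsMetacyclic G) : ∃ (V Z : Subgroup G) (d : G) (a : ℕ) (x : G),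
      RankTwoAb p V Z (centralizer V) d a ∧ (centralizer (V : Set G)).index = p ∧
        x ∉ centralizer (V : Set G) ∧ x ^ p = 1 := by
  have h2 : p ≠ 2 := by omega
  have hcyc : ¬ IsCyclic G := fun hcyc =>
    hm ⟨⊥, inferInstance, inferInstance, QuotientGroup.quotientBot.isCyclic.2 hcyc⟩
  obtain ⟨V, hVn, hV, hc⟩ := exists_normal_rank_two h2 hP hcyc
  obtain ⟨Z, h⟩ := exists_rankTwo h2 hP hrk hV hc
  have hD : (centralizer (V : Set G)).index ≤ p := by
    simpa using index_centralizer_le_of_normal hP 2 V hc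
  set D := centralizer (V : Set G)
  have h1 := h.index_mho_le
  replace hm : ¬ (powerClosure p 1 D < powerClosure p 1 ⊤ ∨ D = ⊤) := fun hm' => by
    refine hm (isMetacyclic_of_index_mho_le h2 hP ?_)
    rcases hm' with hm | hm
    · have h3 := relIndex_mul_index hm.le
      have h4 := prime_le_relIndex_of_not_le hP hm.not_ge
      rw [← relIndex_mul_index (powerClosure_le p 1 D)] at h3
      refine Nat.le_of_mul_le_mul_left ((Nat.mul_le_mul_right _ h4).trans (h3.trans_le ?_)) hp.out.pos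
      rw [mul_comm]
      exact Nat.mul_le_mul hD h1
    · rwa [hm, relIndex_top_right] at h1
  rw [not_or, lt_iff_le_not_ge, not_and, not_not] at hm
  have h4 : ∀ x, x ^ p ∈ powerClosure p 1 D := fun x =>
    hm.1 (powerClosure_mono _ _ le_top) (pow_mem_mho (mem_top x))
  have hDi : D.index = p := le_antisymm hD (by
    simpa using prime_le_relIndex_of_not_le hP (K := ⊤) fun h => hm.2 (top_le_iff.1 h))
  obtain ⟨x, -, hx⟩ := SetLike.exists_of_lt (lt_top_iff_ne_top.2 hm.2)
  have hW : ∀ w ∈ D, w ^ p ∈ V → w ^ p ∈ Z := by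
    by_contra hW
    push Not at hW
    obtain ⟨w, hw, hwp, hwZ⟩ := hW
    obtain ⟨y, hy, hyx⟩ : ∃ y ∈ V, ¬ Commute y x := by
      by_contra h5
      push Not at h5
      exact hx h5
    obtain ⟨h5, -⟩ := h.three_and_card_centralizer_le hD h.omega (fun e he c hc hcp hec => by
      refine h.omega _ (mul_mem (inv_mem hc) he) ?_
      rw [h.mul_pow (inv_mem hc) he (hec ▸ hcp), hec, inv_pow, inv_mul_cancel]) hw hwp
      (fun h6 => hwZ (h.mem_Z_of_commute hy hyx hwp h6))
      (mem_centralizer_singleton_iff.1 ((mho_le_iff.2 fun e he => mem_centralizer_singleton_iff.2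
        (h.commute_pow he hw hwp).symm : _ ≤ centralizer {w}) (h4 x))).symm
    omega
  obtain ⟨d, a, h5, h6, h7⟩ := h.exists_gen hW
  have h' : RankTwoAb p V Z D d a := ⟨h, hW, h5, h6, h7⟩
  rcases h'.exists_pow_eq_one (h4 x) with ⟨h8, -⟩ | ⟨e, he, hxp⟩
  · omega
  exact ⟨V, Z, d, a, x * e, h', hDi, by rwa [mul_mem_cancel_right he], hxp⟩

namespace RankTwoAb

variable [Finite G] [hp : Fact p.Prime] {V Z : Subgroup G} {d x : G} {a : ℕ}
  (h : RankTwoAb p V Z (centralizer V) d a) (hD : (centralizer (V : Set G)).index = p)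
  (hx : x ∉ centralizer (V : Set G)) (hxp : x ^ p = 1)
include h hD hx hxp

theorem card_eq : Nat.card G = p ^ (a + 3) := by
  rw [← (centralizer (V : Set G)).card_mul_index, h.cardD, hD, ← pow_succ]

theorem card_sup : Nat.card (V ⊔ zpowers x : Subgroup G) = p ^ 3 := by
  have := h.normalV
  rw [card_sup_zpowers (fun h1 => hx (h.VD h1)) (hxp ▸ one_mem V), h.cardV, ← pow_succ]

theorem sup_le_omega : V ⊔ zpowers x ≤ closure {g : G | g ^ p = 1} :=
  sup_le (fun v hv => subset_closure (h.pow_eq_one v hv)) (zpowers_le.2 (subset_closure hxp))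

theorem omega_eq (h3 : 3 < p) (hrk : PRankLE p 2 G) :
    V ⊔ zpowers x = closure {g : G | g ^ p = 1} :=
  eq_of_le_of_card_ge (h.sup_le_omega hD hx hxp)
    (h.card_sup hD hx hxp ▸ card_omega_le_cube h3 h.pgroup hrk)

theorem commutator_eq (ht : cj (cj d x) x ≠ 1) : _root_.commutator G = V := by
  have := h.normalV
  have hv := h.cj_mem_V (hxp ▸ one_mem _) h.mem
  have hc : ∀ g k : G, cj g k ∈ _root_.commutator G := fun g k =>
    cj_eq_commutator g k ▸ commutator_mem_commutator (mem_top _) (mem_top _)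
  refine le_antisymm (commutator_le.2 fun g _ k _ => ?_) ((h.eq_or_le fun z hz => ?_).resolve_right
    fun h1 => ht (cj_eq_one_iff.2 (h.commZ (h1.le ⟨hv, hc _ _⟩) x)))
  · have h1 : ∀ e ∈ centralizer (V : Set G),
        Commute (QuotientGroup.mk' V e) (QuotientGroup.mk' V x) := fun e he => by
      rw [← cj_eq_one_iff, ← map_cj]
      exact (QuotientGroup.eq_one_iff _).2 (h.cj_mem_V (hxp ▸ one_mem _) he)
    obtain ⟨i, e, he, rfl⟩ := exists_pow_mul_eq_of_index_prime hD hx g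
    obtain ⟨j, f, hf, rfl⟩ := exists_pow_mul_eq_of_index_prime hD hx k
    rw [← QuotientGroup.eq_one_iff, ← QuotientGroup.mk'_apply, map_commutatorElement,
      commutatorElement_eq_one_iff_commute]
    simp only [map_mul, map_pow]
    exact ((Commute.pow_pow_self _ i j).mul_right ((h1 f hf).symm.pow_left i)).mul_left
      (((h1 e he).pow_right j).mul_right ((h.commD he hf).map _))
  · obtain ⟨i, rfl⟩ := exists_pow_eq_of_card_prime h.cardZ (h.cj_mem_Z hv x) ht hz
    exact pow_mem (hc _ _) i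

theorem closure_pair_eq_top (ht : cj (cj d x) x ≠ 1) : closure ({x, d} : Set G) = ⊤ := by
  have h1 : x ∈ closure ({x, d} : Set G) := subset_closure (by simp)
  have h2 : d ∈ closure ({x, d} : Set G) := subset_closure (by simp)
  exact h.closure_eq_top hD hx (h.cj_mem_V (hxp ▸ one_mem _) h.mem)
    (fun h3 => ht (cj_eq_one_iff.2 (h.commZ h3 x))) h1
    (mul_mem (inv_mem h2) (mul_mem (mul_mem (inv_mem h1) h2) h1)) h2

theorem ne_zero (ht : cj (cj d x) x ≠ 1) : a ≠ 0 := by
  rintro rfl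
  refine ht ?_
  rw [cj_eq_one_iff.2 (h.commZ (z := d) (by simpa using h.memZ) x),
    cj_eq_one_iff.2 (Commute.one_left x)]

theorem apply_mem (ht : cj (cj d x) x ≠ 1) (σ : MulAut G) {g : G}
    (hg : g ∈ centralizer (V : Set G)) : σ g ∈ centralizer (V : Set G) := by
  rw [← h.commutator_eq hD hx hxp ht] at hg ⊢
  exact (characteristic_iff_map_le.1 inferInstance) σ ⟨g, hg, rfl⟩

/-- In class three every automorphism acts on `G / C(V)` as `± 1`. -/
theorem sq_eq_one (ht : cj (cj d x) x ≠ 1) (σ : MulAut G) {w : G}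
    (hw : w ∉ centralizer (V : Set G)) {j : ℕ} (hj : (w ^ j)⁻¹ * σ w ∈ centralizer (V : Set G)) :
    (j : ZMod p) ^ 2 = 1 := by
  have := h.normalD
  have hxD : x ^ p ∈ centralizer (V : Set G) := hxp ▸ one_mem _
  have hv := h.cj_mem_V hxD h.mem
  have htZ := h.cj_mem_Z hv x
  obtain ⟨k, e, he, hk⟩ := exists_pow_mul_eq_of_index_prime hD hx (σ x)
  have hjk : (j : ZMod p) = k := by
    obtain ⟨m, f, hf, rfl⟩ := exists_pow_mul_eq_of_index_prime hD hx w
    refine modEq_of_pow_inv_mul_mem hD hw ?_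
    rw [← QuotientGroup.eq] at hj ⊢
    rw [hj, map_mul, map_pow, ← hk]
    simp only [QuotientGroup.mk_mul, QuotientGroup.mk_pow, (QuotientGroup.eq_one_iff _).2 he,
      (QuotientGroup.eq_one_iff _).2 hf, mul_one,
      (QuotientGroup.eq_one_iff _).2 (h.apply_mem hD hx hxp ht σ hf), pow_right_comm _ k]
  obtain ⟨u, hu, i, hi⟩ := h.exists_eq (h.apply_mem hD hx hxp ht σ h.mem)
  have hσd := h.apply_mem hD hx hxp ht σ h.mem
  have h1 : σ (d ^ p ^ a) = (d ^ p ^ a) ^ i := by
    obtain ⟨b, rfl⟩ := Nat.exists_eq_succ_of_ne_zero (h.ne_zero hD hx hxp ht)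
    rw [map_pow, ← hi, (h.comm u hu _ (pow_mem h.mem i)).mul_pow, pow_succ' p, pow_mul u,
      h.pow_eq_one u hu, one_pow, one_mul, pow_right_comm]
  obtain ⟨s, hs⟩ := h.exists_pow_eq htZ
  have h2 : σ (cj (cj d x) x) = cj (cj d x) x ^ i := by
    rw [← hs, map_pow, h1, pow_right_comm]
  have hxk : (x ^ k) ^ p ∈ centralizer (V : Set G) := pow_right_comm x p k ▸ pow_mem hxD k
  have h3 : ∀ g ∈ centralizer (V : Set G), cj g (σ x) = cj g (x ^ k) := fun g hg => by
    rw [← hk, cj_mul_right (h.commD hg he) (h.commD (cj_mem hg _) he)]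
  have hv' := h.cj_mem_V hxk h.mem
  rw [map_cj, map_cj, h3 _ hσd, h3 _ (cj_mem hσd _), ← hi, h.cj_mul_pow (h.VD hu),
    cj_mul (h.commD (cj_mem (cj_mem (h.VD hu) _) _) (h.VD (pow_mem hv' i))),
    cj_eq_one_iff.2 (h.commZ (h.cj_mem_Z hu _) _), one_mul,
    cj_pow (h.commZ (h.cj_mem_Z hv' _) _), h.cj_cj_pow hxD, ← pow_mul] at h2
  have h4 := modEq_of_pow_eq_pow ht (h.pow_eq_one _ (h.ZV htZ)) h2
  have h5 : (i : ZMod p) ≠ 0 := fun h5 => h.ne_one (σ.injective (by
    rw [h1, map_one]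
    exact pow_eq_one_of_dvd' (h.pow_eq_one _ (h.ZV h.memZ)) ((ZMod.natCast_eq_zero_iff _ _).1 h5)))
  push_cast at h4
  rw [hjk, sq]
  exact mul_right_cancel₀ h5 (h4.trans (one_mul _).symm)

/-- In class two, `G` is a central product of `Ω₁(G)` and the cyclic centre. -/
theorem exists_center_eq (ht : cj (cj d x) x = 1) : ∃ y z, y ^ p = 1 ∧
    zpowers z = Subgroup.center G ∧ orderOf z = p ^ (a + 1) ∧ cj y x = z ^ p ^ a ∧
    closure ({x, y, z} : Set G) = ⊤ ∧ (Subgroup.center G).index = p ^ 2 := by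
  obtain ⟨y, z, h1, h2, h3, h4, h5, h6⟩ := h.presentation_central hD hx
    (fun h1 => hx fun v hv => mem_centralizer_singleton_iff.1 (h1 hv)) hxp ht
  have key : ∀ g, Commute x g → Commute y g → Commute z g → g ∈ Subgroup.center G :=
    fun g e1 e2 e3 => mem_center_iff.2 fun k => mem_centralizer_singleton_iff.1
      (((closure_le (centralizer {g})).2 (by
        rintro _ (rfl | rfl | rfl) <;> exact mem_centralizer_singleton_iff.2 ‹_›)) (h1.ge (mem_top k)))
  have hxZ : x ∉ Subgroup.center G := fun h7 => hx (center_le_centralizer _ h7)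
  rw [conj_eq_cj, mul_right_inj] at h6
  have hz : orderOf z = p ^ (a + 1) := orderOf_eq_prime_pow (fun h7 => hxZ (key x (Commute.refl x)
    (cj_eq_one_iff.1 (h6.trans h7)) (Eq.symm h4))) h3
  obtain ⟨k, hk⟩ := h.pgroup.index (Subgroup.center G)
  have hk2 : 2 ≤ k := by
    by_contra h7
    have : IsCyclic (G ⧸ Subgroup.center G) := isCyclic_of_card_dvd_prime (p := p)
      (by rw [← index_eq_card, hk]; simpa using pow_dvd_pow p (show k ≤ 1 by omega))
    exact hxZ (mem_center_iff.2 fun g =>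
      (isMulCommutative_of_isCyclic_quotient_center_self G).is_comm.comm g x)
  have h7 := (Subgroup.center G).card_mul_index
  have h8 : zpowers z = Subgroup.center G := by
    refine eq_of_le_of_card_ge (zpowers_le.2 (key z h4 h5 (Commute.refl z))) ?_
    refine Nat.le_of_mul_le_mul_right ?_ (pow_pos hp.out.pos k)
    rw [Nat.card_zpowers, hz, ← hk, h7, hk, h.card_eq hD hx hxp, ← pow_add]
    exact Nat.pow_le_pow_right hp.out.pos (by omega)
  refine ⟨y, z, h2, h8, hz, h6, h1, ?_⟩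
  rw [← h8, Nat.card_zpowers, hz, h.card_eq hD hx hxp, show a + 3 = a + 1 + 2 from rfl,
    pow_add p (a + 1) 2, h8] at h7
  exact Nat.eq_of_mul_eq_mul_left (pow_pos hp.out.pos _) h7

end RankTwoAb

theorem pRankLE_subgroup {k : ℕ} (h : PRankLE p k G) (H : Subgroup G) : PRankLE p k H :=
  fun A h1 h2 => rank_le_of_injective H.subtype H.subtype_injective (fun E hE => h E hE.1 hE.2) A
    ⟨h1, h2⟩

/-- A non-metacyclic subgroup of a group of rank two contains all elements of order `p > 3`. -/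
theorem omega_le_of_not_isMetacyclic [Finite G] [hp : Fact p.Prime] (h3 : 3 < p)
    (hG : IsPGroup p G) (hrk : PRankLE p 2 G) {E : Subgroup G} (hE : ¬ IsMetacyclic E) :
    closure {g : G | g ^ p = 1} ≤ E := by
  obtain ⟨V, Z, d, a, x, h, hD, hx, hxp⟩ :=
    exists_rankTwoAb h3 (hG.to_subgroup E) (pRankLE_subgroup hrk E) hE
  refine le_trans (eq_of_le_of_card_ge ?_ ?_).ge (map_subtype_le (V ⊔ zpowers x))
  · refine map_le_iff_le_comap.2 ((h.sup_le_omega hD hx hxp).trans ((closure_le _).2 fun g hg => ?_))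
    exact subset_closure (congrArg Subtype.val hg)
  · rw [CfsgLib.Core.card_map_subtype, h.card_sup hD hx hxp]
    exact card_omega_le_cube h3 hG hrk

theorem false_of_diag_aut_of_isMetacyclic [Finite G] [hp : Fact p.Prime] (h2 : p ≠ 2)
    (hG : IsPGroup p G) (hrk : PRankLE p 2 G) (hm : IsMetacyclic G) {E : Subgroup G} (hE : E ≠ ⊤)
    (hC : centralizer (E : Set G) ≤ E) (hEe : IsElementaryAbelian p E) (hc : Nat.card E = p ^ 2)
    {v w : G} (hvw : E ≤ zpowers v ⊔ zpowers w) (hv : v ∈ E) (hw : w ∈ E) (σ : MulAut G) {i j : ℕ}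
    (hi : σ v = v ^ i) (hj : σ w = w ^ j) (hi1 : (i : ZMod p) ≠ 1) (hj1 : (j : ZMod p) ≠ 1) :
    False := by
  obtain ⟨-, h3⟩ := CfsgLib.PLocal.Rank2.omegaOne_of_isMetacyclic h2 hG hm fun h =>
    CfsgLib.PLocal.Rank2.not_isCyclic_of_elemAb hEe (hc ▸ CfsgLib.PLocal.Rank2.prime_lt_sq)
      inferInstance
  have h4 : E = omegaOne p ⊤ := eq_of_le_of_card_ge
    (fun g hg => CfsgLib.PLocal.mem_omegaOne (mem_top g) (hEe.2 g hg)) (by rw [h3, hc])
  have : E.Normal := h4 ▸ CfsgLib.PLocal.Rank2.omegaOne_normal ⊤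
  obtain ⟨Z, h⟩ := exists_rankTwo h2 hG hrk hEe hc
  have h5 : E.index = p := by
    refine le_antisymm ((index_antitone hC).trans ?_) ?_
    · simpa using index_centralizer_le_of_normal hG 2 E hc
    · simpa using prime_le_relIndex_of_not_le hG (K := ⊤) fun h => hE (top_le_iff.1 h)
  obtain ⟨s, -, hs⟩ := SetLike.exists_of_lt (lt_top_iff_ne_top.2 hE)
  have hs1 : s ^ p ≠ 1 := fun h6 => hs (h4 ▸ CfsgLib.PLocal.mem_omegaOne (mem_top s) h6)
  obtain ⟨y, hy, hys⟩ : ∃ y ∈ E, ¬ Commute y s := by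
    by_contra h6
    push Not at h6
    exact hs (hC h6)
  have hsZ : s ^ p ∈ Z := h.mem_Z_of_commute hy hys (h5 ▸ E.pow_index_mem s) (Commute.pow_self s p)
  obtain ⟨k, e, he, hk⟩ := exists_pow_mul_eq_of_index_prime h5 hs (σ s)
  have h6 : σ (s ^ p) = (s ^ p) ^ k := by
    have h7 := h.cj_mem_Z he (s ^ k)
    rw [map_pow, ← hk, mul_pow_prime_class_two hp.out h2 (mul_eq_cj e _) (h.commZ h7 _)
      (h.commZ h7 _) (h.pow_eq_one _ (h.ZV h7)), h.pow_eq_one e he, mul_one, pow_right_comm]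
  have hk0 : (k : ZMod p) ≠ 0 := fun h7 => hs1 (σ.injective (by
    rw [h6, map_one]
    exact pow_eq_one_of_dvd' (h.pow_eq_one _ (h.ZV hsZ)) ((ZMod.natCast_eq_zero_iff _ _).1 h7)))
  have key : ∀ y ∈ E, ∀ i : ℕ, σ y = y ^ i → (i : ZMod p) ≠ 1 → y ∈ centralizer {s} := by
    intro y hy i hi hi1
    by_contra h7
    have h8 := h.cj_mem_Z hy s
    obtain ⟨m, hm⟩ := exists_pow_eq_of_card_prime h.cardZ hsZ hs1 h8
    have h9 : σ (cj y s) = cj y s ^ k := by rw [← hm, map_pow, h6, pow_right_comm]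
    rw [map_cj, hi, ← hk, cj_mul_right (h.comm _ (pow_mem hy i) _ (h.VD he))
      (h.commZ (h.cj_mem_Z (pow_mem hy i) _) _), cj_pow (h.commZ (h.cj_mem_Z hy _) _),
      cj_pow_right (h.commZ h8 _), ← pow_mul] at h9
    have h10 := modEq_of_pow_eq_pow (mt cj_eq_one_iff.1 (mt mem_centralizer_singleton_iff.2 h7))
      (h.pow_eq_one _ (h.ZV h8)) h9
    push_cast at h10
    exact hi1 (mul_left_cancel₀ hk0 (h10.trans (mul_one _).symm))
  exact hys (mem_centralizer_singleton_iff.1 (hvw.trans (sup_le (zpowers_le.2 (key v hv i hi hi1))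
    (zpowers_le.2 (key w hw j hj hj1))) hy))

/-- A `p`-group of rank two, `p ≥ 5`, other than `p₊^{1+2}` has no automorphism acting diagonally
with eigenvalues `≠ ± 1` on `E / X` for a proper self-centralizing subgroup `E`. -/
theorem false_of_diag_aut [Finite G] [hp : Fact p.Prime] (h3 : 3 < p)
    (hG : IsPGroup p G) (hrk : PRankLE p 2 G) (hne : ¬ (Nat.card G = p ^ 3 ∧ ∀ g : G, g ^ p = 1))
    {E X : Subgroup G} (hE : E ≠ ⊤) (hC : centralizer (E : Set G) ≤ E)
    (hX : X ≤ centralizer (E : Set G))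
    (hcase : (IsElementaryAbelian p E ∧ Nat.card E = p ^ 2 ∧ X = ⊥) ∨ ¬ IsMetacyclic E)
    {v w : G} (hvw : E ≤ X ⊔ zpowers v ⊔ zpowers w) (hv : v ∈ E) (hw : w ∈ E) (σ : MulAut G)
    {i j : ℕ} (hi : (v ^ i)⁻¹ * σ v ∈ X) (hj : (w ^ j)⁻¹ * σ w ∈ X) (hi1 : (i : ZMod p) ^ 2 ≠ 1)
    (hj1 : (j : ZMod p) ^ 2 ≠ 1) : False := by
  by_cases hm : IsMetacyclic G
  · obtain ⟨h1, h2, rfl⟩ := hcase.resolve_right (not_not.2 (isMetacyclic_subgroup hm E))
    rw [mem_bot, inv_mul_eq_one] at hi hj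
    exact false_of_diag_aut_of_isMetacyclic (by omega) hG hrk hm hE hC h1 h2 (by simpa using hvw)
      hv hw σ hi.symm hj.symm (fun h => hi1 (by rw [h, one_pow])) fun h => hj1 (by rw [h, one_pow])
  obtain ⟨V, Z, d, a, x, h, hD, hx, hxp⟩ := exists_rankTwoAb h3 hG hrk hm
  replace hcase := hcase.imp_right (omega_le_of_not_isMetacyclic h3 hG hrk)
  have hΩ := h.omega_eq hD hx hxp h3 hrk
  by_cases ht : cj (cj d x) x = 1
  · obtain ⟨y, z, h1, h2, h4, -, h5, -⟩ := h.exists_center_eq hD hx hxp ht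
    have hz : z ∈ E := hC (center_le_centralizer _ (h2 ▸ mem_zpowers z))
    rcases hcase with ⟨h6, -⟩ | h6
    · have h7 := orderOf_dvd_of_pow_eq_one (h6.2 z hz)
      rw [h4] at h7
      have h8 := (Nat.pow_dvd_pow_iff_le_right hp.out.one_lt).1 (h7.trans (pow_one p).symm.dvd)
      have h9 := h.card_eq hD hx hxp
      rw [show a = 0 by omega] at h9
      refine hne ⟨h9, fun g => omega_pow_eq_one_of_rank_two h3 hG (fun E hE => hrk E hE.1 hE.2) ?_⟩
      rw [← hΩ, eq_top_of_card_eq _ ((h.card_sup hD hx hxp).trans h9.symm)]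
      exact mem_top g
    · refine hE (eq_top_iff.2 (h5 ▸ (closure_le _).2 ?_))
      rintro _ (rfl | rfl | rfl)
      exacts [h6 (subset_closure hxp), h6 (subset_closure h1), hz]
  have hXD : X ≤ centralizer (V : Set G) := by
    rcases hcase with ⟨-, -, rfl⟩ | h6
    · exact bot_le
    · exact hX.trans (centralizer_le (show V ≤ E from le_sup_left.trans (hΩ.trans_le h6)))
  have hED : ¬ E ≤ centralizer (V : Set G) := fun h1 => by
    rcases hcase with ⟨-, h6, -⟩ | h6
    · have h7 := card_le_of_le (show centralizer (V : Set G) ≤ E from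
        fun g hg => hC fun e he => h.commD (h1 he) hg)
      rw [h.cardD, h6, Nat.pow_le_pow_iff_right hp.out.one_lt] at h7
      exact h.ne_zero hD hx hxp ht (by omega)
    · exact hx (h1 (h6 (subset_closure hxp)))
  refine hED (hvw.trans (sup_le (sup_le hXD (zpowers_le.2 ?_)) (zpowers_le.2 ?_)))
  · by_contra h1
    exact hi1 (h.sq_eq_one hD hx hxp ht σ h1 (hXD hi))
  · by_contra h1
    exact hj1 (h.sq_eq_one hD hx hxp ht σ h1 (hXD hj))

end CfsgLib.PGroup
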