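import Mathlib
import Cfsg.Agent.Lib.PGroup.RankTwo3
import Cfsg.Agent.Lib.Fusion.AutPair
import Cfsg.Agent.Lib.Fusion.Essential
import Cfsg.Agent.Lib.Fusion.Normal

/-!
# `p`-groups of rank two are resistant for `p ≥ 5`, except for `p₊^{1+2}`
-/

set_option autoImplicit false
set_option linter.unusedSectionVars false
set_option maxHeartbeats 400000

namespace CfsgLib.PGroup

open Cfsg Subgroup CfsgLib.RegP CfsgLib.Fusion CfsgLib.Metacyc CfsgLib.SL2 Cfsg.FusionSystem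
open scoped commutatorElement

universe u

section Aut

variable {E : Type u} [Group E] [Finite E] {p : ℕ} [hp : Fact p.Prime]
  {A U M : Subgroup (MulAut E)}

theorem mem_zpowers_pow_pow_of_pow_eq_one {a g : E} {k : ℕ} (ha : orderOf a = p ^ (k + 1))
    (hg : g ∈ zpowers a) (hgp : g ^ p = 1) : g ∈ zpowers (a ^ p ^ k) := by
  obtain ⟨m, rfl⟩ := mem_powers_iff_mem_zpowers.2 hg
  rw [← pow_mul, ← orderOf_dvd_iff_pow_eq_one, ha, pow_succ] at hgp
  obtain ⟨n, rfl⟩ := Nat.dvd_of_mul_dvd_mul_right hp.out.pos hgp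
  exact ⟨n, by simp [pow_mul]⟩

theorem pow_mem_of_ne_one {a c : E} {k : ℕ} (ha : orderOf a = p ^ (k + 1))
    (hc : c ∈ zpowers a) (hc1 : c ≠ 1) : a ^ p ^ k ∈ zpowers c := by
  obtain ⟨j, h1, h2⟩ := exists_pow_not_mem_pow_mem (N := ⊥) (x := c) (p := p) (k := k + 1)
    (mem_bot.2 (orderOf_dvd_iff_pow_eq_one.1 (ha ▸ orderOf_dvd_of_mem_zpowers hc)))
    (mt mem_bot.1 hc1)
  obtain ⟨i, hi⟩ := exists_pow_eq_of_card_prime (p := p) (Z := zpowers (a ^ p ^ k))
    (by rw [Nat.card_zpowers, orderOf_pow_of_dvd (pow_pos hp.out.pos k).ne'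
      (ha ▸ pow_dvd_pow p k.le_succ), ha, pow_succ, Nat.mul_div_cancel_left _ (pow_pos hp.out.pos k)])
    (mem_zpowers_pow_pow_of_pow_eq_one ha (pow_mem hc _) (mem_bot.1 h2)) (mt mem_bot.2 h1)
    (mem_zpowers _)
  exact hi ▸ pow_mem (pow_mem (mem_zpowers c) _) i

theorem essAut_index_frattini_of_pair (h : EssAut p A U M) (hE : IsPGroup p E) {x y : E}
    (hxy : closure ({x, y} : Set E) = ⊤) : (frattini E).index = p ^ 2 := by
  obtain ⟨d, h1, h2⟩ := h.exists_index_frattini hE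
  have h3 := index_frattini_le_sq_of_pair hE hxy
  rw [h2, Nat.pow_dvd_pow_iff_le_right hp.out.one_lt] at h3
  rw [h2, le_antisymm h3 h1]

/-- A metacyclic essential subgroup is abelian for odd `p`. -/
theorem essAut_commute_of_isMetacyclic (h : EssAut p A U M) (hE : IsPGroup p E) (h2 : p ≠ 2)
    (hm : IsMetacyclic E) : (frattini E).index = p ^ 2 ∧ ∀ a b : E, Commute a b := by
  obtain ⟨a, b, hab⟩ := exists_mc hp.out h2 hE hm
  have hi := essAut_index_frattini_of_pair h hE (x := a) (y := b) (by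
    rw [← hab.sup_eq_top, zpowers_eq_closure, zpowers_eq_closure, ← Subgroup.closure_union]; rfl)
  refine ⟨hi, ?_⟩
  have hirr : ∀ W, AInv A W → ¬ W ≤ frattini E → W = ⊤ := fun W hW h1 =>
    frattini_nongenerating ((h.eq_or_eq_of_index_sq hE (hW.sup (aInv_frattini A)) le_sup_right
      hi).resolve_left fun h3 => h1 (le_sup_left.trans h3.le))
  have hcyc : ∀ g k : E, k ∈ frattini E → zpowers g ⊔ zpowers k ≠ ⊤ := fun g k hk h1 => by
    classical
    have h3 : zpowers g = ⊤ := frattini_nongenerating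
      (top_le_iff.1 (h1.ge.trans (sup_le_sup_left (zpowers_le.2 hk) _)))
    have := CfsgLib.Core.burnside_basis_le hE hi {g} (by simpa [zpowers_eq_closure] using h3)
    simp at this
  have ha : a ∉ frattini E := fun h1 => hcyc b a h1 (sup_comm _ _ |>.trans hab.sup_eq_top)
  suffices h1 : ⁅a, b⁆ = 1 by
    intro x y
    rw [← commutatorElement_eq_one_iff_commute, ← mem_bot, ← zpowers_one_eq_bot, ← h1,
      ← hab.commutator_eq]
    exact commutator_mem_commutator (mem_top _) (mem_top _)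
  by_contra h1
  have hreg := reg1_of_cyc hab.cyc
  obtain ⟨k, hk⟩ := IsPGroup.iff_orderOf.1 hE a
  obtain ⟨k, rfl⟩ := Nat.exists_eq_succ_of_ne_zero (show k ≠ 0 by
    rintro rfl
    exact ha (orderOf_eq_one_iff.1 hk ▸ one_mem _))
  have hΩ : ∀ j, AInv A (hreg.omega j) := fun j =>
    have := hreg.omega_characteristic j
    aInv_of_characteristic A _
  have h3 := hirr _ (hΩ (k + 1)) fun h3 => ha (h3 (hreg.mem_omega.2 (hk ▸ pow_orderOf_eq_one a)))
  have h4 := hirr ((powMonoidHom (p ^ k)).ker.comap (Abelianization.of (G := E)))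
    (fun α hα x hx => by
      rw [mem_comap, MonoidHom.mem_ker, powMonoidHom_apply, ← map_pow, ← MonoidHom.mem_ker,
        Abelianization.ker_of] at hx ⊢
      exact map_pow α x _ ▸ aInv_commutator A α hα _ hx)
    fun h4 => ha (h4 (by
      rw [mem_comap, MonoidHom.mem_ker, powMonoidHom_apply, ← map_pow, ← MonoidHom.mem_ker,
        Abelianization.ker_of, hab.commutator_eq]
      exact pow_mem_of_ne_one hk (hab.cyc.comm a b) h1))
  have h5 := h4.ge (mem_top b)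
  rw [mem_comap, MonoidHom.mem_ker, powMonoidHom_apply, ← map_pow, ← MonoidHom.mem_ker,
    Abelianization.ker_of, hab.commutator_eq] at h5
  obtain ⟨i, hi'⟩ := mem_powers_iff_mem_zpowers.2 (mem_zpowers_pow_pow_of_pow_eq_one hk
    (zpowers_le.2 (hab.cyc.comm a b) h5)
    (by rw [← pow_mul, ← pow_succ]; exact hreg.mem_omega.1 (h3.ge (mem_top b))))
  have h6 := hirr _ (hΩ k) fun h6 => hcyc a (b * (a ^ i)⁻¹) (h6 (hreg.mem_omega.2
    ((hreg.pow_eq_iff b (a ^ i) k).1 (by rw [pow_right_comm]; exact hi'.symm)))) (by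
      rw [eq_top_iff, ← hab.sup_eq_top]
      refine sup_le le_sup_left (zpowers_le.2 ?_)
      exact (mul_mem_cancel_right (inv_mem (mem_sup_left (pow_mem (mem_zpowers a) i)))).1
        (mem_sup_right (mem_zpowers _)))
  exact pow_ne_one_of_lt_orderOf (pow_pos hp.out.pos k).ne'
    (hk ▸ Nat.pow_lt_pow_right hp.out.one_lt k.lt_succ_self) (hreg.mem_omega.1 (h6.ge (mem_top a)))

theorem essAut_elemTwo_of_isMetacyclic (h : EssAut p A U M) (hE : IsPGroup p E) (h3 : 3 < p)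
    (hm : IsMetacyclic E) : ElemTwo p E := by
  obtain ⟨hi, hc⟩ := essAut_commute_of_isMetacyclic h hE (by omega) hm
  obtain ⟨a, h1, -, h2⟩ := h.abelian_rank_two hE hc hi
  obtain rfl : a = 0 := by omega
  have h4 : ∀ z : E, z ^ p = 1 := by simpa using h1
  refine ⟨hc, h4, ?_⟩
  rw [← hi, (CfsgLib.Core.frattini_eq_bot_iff_of_isPGroup hE).2
    ⟨isMulCommutative_iff_forall.2 hc, h4⟩, index_bot]

theorem essAut_center_of_not_isMetacyclic (h : EssAut p A U M) (hE : IsPGroup p E) (h3 : 3 < p)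
    (hrk : PRankLE p 2 E) (hm : ¬ IsMetacyclic E) : (center E).index = p ^ 2 ∧
      ∀ k ∈ A, StabOn k (center E) ⊤ → k ∈ Inn E := by
  obtain ⟨V, Z, d, a, x, h1, hD, hx, hxp⟩ := exists_rankTwoAb h3 hE hrk hm
  by_cases ht : cj (cj d x) x = 1
  swap
  · have hi := essAut_index_frattini_of_pair h hE (h1.closure_pair_eq_top hD hx hxp ht)
    rcases h.eq_or_eq_of_index_sq hE (W := centralizer V)
      (fun α _ g hg => h1.apply_mem hD hx hxp ht α hg)
      (frattini_le_coatom (CfsgLib.Core.isCoatom_of_index_prime (hD ▸ hp.out))) hi with h2 | h2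
    · rw [h2, hi] at hD
      exact absurd hD CfsgLib.PLocal.Rank2.prime_lt_sq.ne'
    · exact absurd (h2.ge (mem_top x)) hx
  obtain ⟨y, z, -, h4, h5, h6, -, h7⟩ := h1.exists_center_eq hD hx hxp ht
  refine ⟨h7, fun k hk hs => h.mem_Inn_of_stabOn₂ hE hk (aInv_center A) ?_ hs⟩
  have hc : ∀ g c : E, c ∈ center E → Commute g c := fun g c hc => mem_center_iff.1 hc g
  obtain ⟨i, hi⟩ := mem_powers_iff_mem_zpowers.2
    (h4.ge (aInv_center A k hk z (h4.le (mem_zpowers z))))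
  have h8 : (z ^ p ^ a) ^ i = (z ^ p ^ a) ^ 1 := by
    have hi' : z ^ i = k z := hi
    rw [pow_right_comm, hi', ← map_pow, pow_one, ← h6, map_cj, ← mul_inv_cancel_left x (k x),
      cj_mul_right (hc _ _ (hs x (mem_top _))) (hc _ _ (hs x (mem_top _))),
      ← mul_inv_cancel_left y (k y), cj_mul (hc _ _ (hs y (mem_top _))),
      cj_eq_one_iff.2 (hc _ _ (hs y (mem_top _))).symm, mul_one]
  have h9 := modEq_of_pow_eq_pow (pow_ne_one_of_lt_orderOf (pow_pos hp.out.pos a).ne'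
    (h5 ▸ Nat.pow_lt_pow_right hp.out.one_lt a.lt_succ_self))
    (by rw [← pow_mul, ← pow_succ, ← h5, pow_orderOf_eq_one]) h8
  obtain ⟨_, ⟨m, rfl⟩, rfl⟩ :=
    exists_eq_succ_of_modEq hp.out ((ZMod.natCast_eq_natCast_iff _ _ _).1 h9)
  rw [← h4]
  refine stabOn_zpowers ?_
  rw [← show z ^ (p * m + 1) = k z from hi, pow_succ', inv_mul_cancel_left, pow_mul]
  exact pow_mem (pow_mem_frattini hE z) m

theorem essAut_secSq (h : EssAut p A U M) (hE : IsPGroup p E) {X : Subgroup E} (hX : AInv A X)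
    (hi : X.index = p ^ 2) (hK : ∀ k ∈ A, StabOn k X ⊤ → k ∈ Inn E) : SecSq p A U M X ⊤ :=
  { h with
    pg := hE, invX := hX, invY := aInv_top A, le := le_top, idx := by rwa [relIndex_top_right]
    faith := by
      rintro u - ⟨K, k1, k2, k3, k4⟩
      refine h.mem_Inn hE ⟨K, k1, k2, k3, fun β hβ hc y _ => ?_⟩
      obtain ⟨g, rfl⟩ := hK β (k1 hβ) (k4 β hβ hc)
      refine commutator_le_frattini hE ?_
      have : ⁅y⁻¹, g⁆ ∈ _root_.commutator E := commutator_mem_commutator (mem_top y⁻¹) (mem_top g)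
      simpa [commutatorElement_def, mul_assoc] using this }

/-- A diagonal automorphism normalizing the Sylow subgroup. -/
theorem essAut_exists_diag (h : EssAut p A U M) (hE : IsPGroup p E) {X : Subgroup E}
    (hX : AInv A X) (hi : X.index = p ^ 2) (hK : ∀ k ∈ A, StabOn k X ⊤ → k ∈ Inn E)
    {u : MulAut E} (hu : u ∈ U) (huI : u ∉ Inn E) (c : (ZMod p)ˣ) :
    ∃ b ∈ A, b * u * b⁻¹ ∈ U ∧ ∃ v w : E, X ⊔ zpowers v ⊔ zpowers w = ⊤ ∧
      (v ^ (c : ZMod p).val)⁻¹ * b v ∈ X ∧ (w ^ ((c⁻¹ : (ZMod p)ˣ) : ZMod p).val)⁻¹ * b w ∈ X := by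
  have h1 := essAut_secSq h hE hX hi hK
  have := h.normal hX
  obtain ⟨v, w, α, φ, -, hv, hw, h2, h3, a, -, h4⟩ := h1.exists_SL2 hu huI
  obtain ⟨b, -, hb⟩ := h2 (dg c)
  have hV := h1.elemTwo
  obtain ⟨v, hv', rfl⟩ := secMk_surj v
  obtain ⟨w, hw', rfl⟩ := secMk_surj w
  refine ⟨b, b.2, ?_, v, w, eq_top_iff.2 fun g _ => ?_, ?_, ?_⟩
  · let u' : A := ⟨u, h.U_le_A hu⟩
    have h5 : secAut h1.invX h1.invY (b * u' * b⁻¹ * (u' ^ ((c : ZMod p) ^ 2).val)⁻¹) = 1 := by
      simp only [map_mul, map_inv, map_pow, hb, u', ← h4]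
      simp only [← map_mul, ← map_inv, ← map_pow, uu_pow, ZMod.natCast_zmod_val]
      rw [← map_one φ, mul_inv_eq_one.2]
      rw [← dg_inv]
      apply ext2 <;> simp only [mul_ap, dg_00, dg_01, dg_10, dg_11, uu_00, uu_01, uu_10, uu_11,
        inv_inv, mul_zero, zero_mul, add_zero, zero_add, mul_one, Units.mul_inv, Units.inv_mul]
      ring
    exact (mul_mem_cancel_right (inv_mem (pow_mem hu _))).1
      (h.inn (hK _ (b * u' * b⁻¹ * (u' ^ ((c : ZMod p) ^ 2).val)⁻¹).2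
        ((secAut_eq_one_iff _ _ _).1 h5)))
  · obtain ⟨i, j, hij⟩ := hV.exists_coord hv hw (secMk X g (mem_top g))
    rw [← secMk_zpw, ← secMk_zpw, ← secMk_mul, secMk_eq_iff] at hij
    exact (mul_mem_cancel_left (inv_mem (mul_mem (mem_sup_left (mem_sup_right (zpw_mem_zpowers v i)))
      (mem_sup_right (zpw_mem_zpowers w j))))).1 (mem_sup_left (mem_sup_left hij))
  · have h5 := hV.SL2_dg_fst h3 c
    rw [← hb, secAut_mk, ← ZMod.natCast_zmod_val (c : ZMod p), zpw_natCast (hV.pow _),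
      ← secMk_pow, eq_comm, secMk_eq_iff] at h5
    exact h5
  · have h5 := hV.SL2_dg_snd h3 c
    rw [← hb, secAut_mk, ← ZMod.natCast_zmod_val ((c⁻¹ : (ZMod p)ˣ) : ZMod p),
      zpw_natCast (hV.pow _), ← secMk_pow, eq_comm, secMk_eq_iff] at h5
    exact h5

end Aut

variable {Ω : Type u} [Group Ω] {S : Subgroup Ω} [Finite S] {p : ℕ} [hp : Fact p.Prime]
  {F : FusionSystem S}

/-- Maps on subgroups larger than all essential subgroups extend to `S`. -/
theorem exists_extension_of_card_lt (hS : IsPGroup p S) (hF : F.IsSaturated p) {n : ℕ}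
    (hn : ∀ R, F.IsEssential p R → Nat.card R ≤ n) {P : Subgroup Ω} {f : Ω → Ω} (hf : Mor F P f)
    (hP : n < Nat.card P) : ∃ σ : MulAut S, ∀ x ∈ P, extAut σ x = f x := by
  refine alperin_induction hS hF
    (Φ := fun P f => n < Nat.card P → ∃ σ : MulAut S, ∀ x ∈ P, extAut σ x = f x)
    ?_ ?_ ?_ hf hP
  · rintro R (rfl | hR) α _ P hPR h
    · exact ⟨α, fun _ _ => rfl⟩
    · have := finite_of_le (essential_le hR)
      exact absurd ((Subgroup.card_le_of_le hPR).trans (hn R hR)) h.not_ge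
  · intro P f g _ h e hP
    obtain ⟨σ, hσ⟩ := h hP
    exact ⟨σ, fun x hx => (hσ x hx).trans (e x hx)⟩
  · intro P Q f g hf hg h1 h2 h hP
    have := finite_of_le hg.le
    obtain ⟨σ, hσ⟩ := h1 hP
    obtain ⟨τ, hτ⟩ := h2 (hP.trans_le (hf.card_img ▸ Subgroup.card_le_of_le (img_le_iff.2 h)))
    exact ⟨τ * σ, fun x hx => by rw [extAut_mul_apply, hσ x hx, hτ _ (h x hx)]; rfl⟩

theorem exists_unit_sq_ne_one (h3 : 3 < p) : ∃ c : (ZMod p)ˣ, (c : ZMod p) ^ 2 ≠ 1 := by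
  have h1 : ∀ n : ℕ, 0 < n → n < p → (n : ZMod p) ≠ 0 := fun n h1 h2 h =>
    absurd (Nat.le_of_dvd h1 ((ZMod.natCast_eq_zero_iff _ _).1 h)) h2.not_ge
  refine ⟨Units.mk0 (2 : ℕ) (h1 2 two_pos (by omega)), fun h => h1 3 three_pos h3 ?_⟩
  rw [Units.val_mk0] at h
  push_cast at h ⊢
  linear_combination h

theorem isNormal_of_rank_two (hS : IsPGroup p S) (hF : F.IsSaturated p) (h3 : 3 < p)
    (hrk : PRankLE p 2 S) (hne : ¬ (Nat.card S = p ^ 3 ∧ ∀ g : S, g ^ p = 1)) : F.IsNormal S := by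
  refine isNormal_top_of_no_essential hS hF fun R hR => ?_
  obtain ⟨E, hE, hmax⟩ := Set.exists_max_image {E | F.IsEssential p E} (fun E => Nat.card E)
    ((Set.toFinite (Set.range fun H : Subgroup S => H.map S.subtype)).subset fun E hE =>
      ⟨E.subgroupOf S, map_subgroupOf_eq_of_le (essential_le hE)⟩) ⟨R, hR⟩
  have hES := essential_le hE
  have := finite_of_le hES
  have hEp := hS.to_le hES
  obtain ⟨M, h⟩ := essential_essAut hS hF hE
  have e := subgroupOfEquivOfLe hES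
  obtain ⟨X, hX, hi, hK, hXc, hcase⟩ : ∃ X : Subgroup E, AInv (F.autGroup E) X ∧ X.index = p ^ 2 ∧
      (∀ k ∈ F.autGroup E, StabOn k X ⊤ → k ∈ Inn E) ∧ X ≤ center E ∧
      ((ElemTwo p E ∧ X = ⊥) ∨ ¬ IsMetacyclic E) := by
    by_cases hm : IsMetacyclic E
    · have h1 := essAut_elemTwo_of_isMetacyclic h hEp h3 hm
      refine ⟨⊥, aInv_bot _, index_bot.trans h1.card, fun k _ hk => ?_, bot_le, Or.inl ⟨h1, rfl⟩⟩
      rw [show k = 1 from MulEquiv.ext fun x => stabOn_bot_iff.1 hk x (mem_top x)]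
      exact one_mem _
    · obtain ⟨h1, h2⟩ := essAut_center_of_not_isMetacyclic h hEp h3 (fun A h1 h2 =>
        rank_le_of_injective (inclusion hES) (inclusion_injective hES) (fun E hE => hrk E hE.1 hE.2)
          A ⟨h1, h2⟩) hm
      exact ⟨_, aInv_center _, h1, h2, le_rfl, Or.inr hm⟩
  obtain ⟨g, hg, hgE⟩ := SetLike.exists_of_lt (essential_lt_normalizerIn hS hF hE)
  obtain ⟨c, hc⟩ := exists_unit_sq_ne_one h3
  obtain ⟨b, hb, hbu, v, w, hvw, hv, hw⟩ := essAut_exists_diag h hEp hX hi hK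
    (conjAut_mem_autInducedBy hg.2 hg.1)
    (mt (mem_of_conjAut_mem_Inn (essential_centralizerIn_le hE) hES hg.1 hg.2) hgE) c
  have hb' := (mem_autGroup hES).1 hb
  obtain ⟨f, hf, hfb⟩ := receptive_extend' (sat_receptive_of_centric hS hF hE.1) hb' (img_extAut b)
  have := finite_of_le hf.le
  obtain ⟨σ, hσ⟩ := exists_extension_of_card_lt hS hF hmax hf (CfsgLib.Fusion.card_lt_of_lt
    (lt_of_le_of_ne hb'.le_Nf fun h1 => hgE (h1.ge ((mem_Nf_extAut_iff hg.1 hg.2).2 hbu))))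
  have hσb : ∀ x : E, σ (inclusion hES x) = inclusion hES (b x) := fun x => Subtype.ext (by
    rw [coe_eq_extAut, coe_inclusion, hσ _ (hb'.le_Nf x.2), hfb _ x.2, coe_inclusion, coe_eq_extAut])
  have hr : (inclusion hES).range = E.subgroupOf S := inclusion_range hES
  refine false_of_diag_aut h3 hS hrk hne (E := E.subgroupOf S) (X := X.map (inclusion hES))
    (fun h1 => (essential_lt hS hF hE).not_ge (subgroupOf_eq_top.1 h1))
    (fun s hs => essential_mem_of_comm hE s.2 fun x hx =>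
      congrArg Subtype.val (hs ⟨x, hES hx⟩ hx)) ?_ ?_ (v := inclusion hES v) (w := inclusion hES w)
    ?_ v.2 w.2 σ (i := (c : ZMod p).val) (j := ((c⁻¹ : (ZMod p)ˣ) : ZMod p).val)
    ⟨_, hv, by rw [map_mul, map_inv, map_pow, hσb]⟩ ⟨_, hw, by rw [map_mul, map_inv, map_pow, hσb]⟩
    (by rwa [ZMod.natCast_zmod_val]) ?_
  · rintro _ ⟨x, hx, rfl⟩ y hy
    exact Subtype.ext (congrArg (Subtype.val : E → Ω) (Subgroup.mem_center_iff.1 (hXc hx) ⟨y, hy⟩))
  · refine hcase.imp (fun ⟨h1, h2⟩ => ⟨⟨isMulCommutative_iff.2 fun x hx y hy => ?_,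
      fun x hx => ?_⟩, ?_, ?_⟩) fun h1 h2 => h1 (isMetacyclic_of_equiv e h2)
    · exact Subtype.ext (congrArg (Subtype.val : E → Ω) (h1.comm ⟨x, hx⟩ ⟨y, hy⟩).eq)
    · exact Subtype.ext (congrArg (Subtype.val : E → Ω) (h1.pow ⟨x, hx⟩))
    · rw [Nat.card_congr e.toEquiv, h1.card]
    · rw [h2, Subgroup.map_bot]
  · rw [← hr, MonoidHom.range_eq_map, ← hvw, Subgroup.map_sup, Subgroup.map_sup,
      MonoidHom.map_zpowers, MonoidHom.map_zpowers]
  · rw [ZMod.natCast_zmod_val, Units.val_inv_eq_inv_val, inv_pow, Ne, inv_eq_one]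
    exact hc

end CfsgLib.PGroup
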